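import Groth.Agent.TorsorHartogs.Sections
import Groth.Agent.TorsorHartogs.Hartogs
import Groth.Agent.FEtFF.Extend
import Groth.Agent.CAlgH3.RegularCore
import Groth.Agent.NonAb.SchTorsor
import Groth.Agent.Et18.Descent
import Groth.Agent.AlgSpLib.FppfLocal

/-!
# Torsors under finite locally free groups are determined outside codimension two
-/

set_option autoImplicit false
set_option linter.style.haveILetI false
set_option backward.isDefEq.respectTransparency.types false

universe u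

open CategoryTheory CategoryTheory.Limits MonoidalCategory CartesianMonoidalCategory AlgebraicGeometry
open scoped CategoryTheory.Obj

namespace Groth.Agent.TorsorHartogs

variable {X : Scheme.{u}} (U : X.Opens) [QuasiCompact U.ι]

theorem bijective_ι_app_of_regular
    (hZ : ∀ z : X, z ∉ U → IsRegularLocalRing (X.presheaf.stalk z) ∧ (2 : WithBot ℕ∞) ≤ ringKrullDim (X.presheaf.stalk z))
    {V : X.Opens} (hV : IsAffineOpen V) : Function.Bijective (U.ι.app V) := by
  refine bijective_ι_app U (fun z hz => by haveI := (hZ z hz).1; infer_instance) (fun z hz => ?_) hV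
  haveI := (hZ z hz).1
  have h2 := (hZ z hz).2
  rw [← CAlgH3.depth_eq_ringKrullDim (R := X.presheaf.stalk z)] at h2
  exact WithBot.coe_le_coe.1 (by simpa using h2)

variable (hZ : ∀ z : X, z ∉ U → IsRegularLocalRing (X.presheaf.stalk z) ∧ (2 : WithBot ℕ∞) ≤ ringKrullDim (X.presheaf.stalk z))

include hZ

theorem hom_ext_pullback {Y Q : Over X} [IsFinite Y.hom] [Flat Y.hom] [LocallyOfFinitePresentation Y.hom]
    [IsAffineHom Q.hom] (f f' : Y ⟶ Q) (h : (Over.pullback U.ι).map f = (Over.pullback U.ι).map f') : f = f' := by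
  apply Over.OverMorphism.ext
  refine FEtFF.hom_ext_of_injective Y.hom Q.hom (pullback.fst Y.hom U.ι)
    (fun V hV => (bijective_app U.ι Y.hom (IsPullback.of_hasPullback Y.hom U.ι) hV (bijective_ι_app_of_regular U hZ hV)).1)
    f.left f'.left (Over.w f) (Over.w f') ?_
  have h1 := congrArg (fun m => m.left ≫ pullback.fst Q.hom U.ι) h
  simp [Over.pullback] at h1
  exact (pullback.lift_fst _ _ _).symm.trans (h1.trans (pullback.lift_fst _ _ _))

theorem exists_hom_pullback {Y Q : Over X} [IsFinite Y.hom] [Flat Y.hom] [LocallyOfFinitePresentation Y.hom]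
    [IsAffineHom Q.hom] (f' : (Over.pullback U.ι).obj Y ⟶ (Over.pullback U.ι).obj Q) :
    ∃ f : Y ⟶ Q, (Over.pullback U.ι).map f = f' := by
  have hb := fun (V : X.Opens) (hV : IsAffineOpen V) =>
    bijective_app U.ι Y.hom (IsPullback.of_hasPullback Y.hom U.ι) hV (bijective_ι_app_of_regular U hZ hV)
  have hw : f'.left ≫ pullback.snd Q.hom U.ι = pullback.snd Y.hom U.ι := Over.w f'
  have hβ : (f'.left ≫ pullback.fst Q.hom U.ι) ≫ Q.hom = pullback.fst Y.hom U.ι ≫ Y.hom := by
    rw [Category.assoc, pullback.condition, ← Category.assoc]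
    exact (congrArg (· ≫ U.ι) hw).trans pullback.condition.symm
  obtain ⟨γ, hγ, hγ'⟩ := FEtFF.exists_extension Y.hom Q.hom (pullback.fst Y.hom U.ι) (fun V hV => (hb V hV).1)
    (f'.left ≫ pullback.fst Q.hom U.ι) hβ (fun V hV _ b => (hb V hV).2 _)
  refine ⟨Over.homMk γ hγ, Over.OverMorphism.ext (pullback.hom_ext ?_ ?_)⟩
  · exact (pullback.lift_fst _ _ _).trans hγ'
  · exact (Over.w ((Over.pullback U.ι).map (Over.homMk γ hγ))).trans hw.symm

theorem restrict_fullyFaithful (G : Over X) [GrpObj G]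
    [IsFinite G.hom] [Flat G.hom] [LocallyOfFinitePresentation G.hom]
    (Q₁ Q₂ : Over X) (a₁ : AlgGrp.Action G Q₁) (a₂ : AlgGrp.Action G Q₂)
    (h₁ : NonAbH1.IsTorsorFor Scheme.fppfPrecoverage a₁) (h₂ : NonAbH1.IsTorsorFor Scheme.fppfPrecoverage a₂)
    (h' : (Over.pullback U.ι).obj Q₁ ⟶ (Over.pullback U.ι).obj Q₂)
    (hh' : (Functor.LaxMonoidal.μ (Over.pullback U.ι) G Q₁ ≫ (Over.pullback U.ι).map a₁.act) ≫ h' =
      ((Over.pullback U.ι).obj G ◁ h') ≫ (Functor.LaxMonoidal.μ (Over.pullback U.ι) G Q₂ ≫ (Over.pullback U.ι).map a₂.act)) :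
    ∃! h : Q₁ ⟶ Q₂, a₁.act ≫ h = (G ◁ h) ≫ a₂.act ∧ (Over.pullback U.ι).map h = h' := by
  have q₁ := NonAbLib.fppf_isTorsorFor_fpqc h₁
  have q₂ := NonAbLib.fppf_isTorsorFor_fpqc h₂
  haveI : IsFinite Q₁.hom := NonAbLib.property_hom @IsFinite Groth.Agent.Et18.descends_isFinite q₁ ‹_›
  haveI : Flat Q₁.hom := NonAbLib.property_hom @Flat Groth.Agent.AlgSpLib.descends_flat q₁ ‹_›
  haveI : LocallyOfFinitePresentation Q₁.hom :=
    NonAbLib.property_hom @LocallyOfFinitePresentation inferInstance q₁ ‹_›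
  haveI : IsFinite Q₂.hom := NonAbLib.property_hom @IsFinite Groth.Agent.Et18.descends_isFinite q₂ ‹_›
  haveI : IsFinite (G ⊗ Q₁).hom := by
    show IsFinite (pullback.fst G.hom Q₁.hom ≫ G.hom); infer_instance
  haveI : Flat (G ⊗ Q₁).hom := by
    show Flat (pullback.fst G.hom Q₁.hom ≫ G.hom); infer_instance
  haveI : LocallyOfFinitePresentation (G ⊗ Q₁).hom := by
    show LocallyOfFinitePresentation (pullback.fst G.hom Q₁.hom ≫ G.hom); infer_instance
  obtain ⟨h, hh⟩ := exists_hom_pullback U hZ h'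
  refine ⟨h, ⟨hom_ext_pullback U hZ _ _ ?_, hh⟩, fun g hg => hom_ext_pullback U hZ _ _ (hg.2.trans hh.symm)⟩
  rw [← cancel_epi (Functor.LaxMonoidal.μ (Over.pullback U.ι) G Q₁), Functor.map_comp, Functor.map_comp,
    ← Category.assoc, hh, hh', ← Functor.LaxMonoidal.μ_natural_right_assoc, hh]

end Groth.Agent.TorsorHartogs
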